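import Groth.Agent.Lib.BlowUp.StalkIdeal
import Mathlib.AlgebraicGeometry.Morphisms.Separated
import Mathlib.AlgebraicGeometry.Morphisms.Affine
import Mathlib.RingTheory.DiscreteValuationRing.Basic
import Mathlib.RingTheory.Ideal.AssociatedPrime.Basic
import Mathlib.RingTheory.Length

/-!
# The closed subscheme without embedded points attached to a cycle
-/

set_option autoImplicit false
set_option linter.style.haveILetI false
set_option backward.isDefEq.respectTransparency false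

universe u

open CategoryTheory AlgebraicGeometry IsLocalRing TopologicalSpace

namespace GrothLib.CycSub13

variable {X : Scheme.{u}}

/-- The morphism from the `n`-th thickening of the local ring at a point. -/
noncomputable def ptMap (z : X) (n : ℕ) :
    Spec (CommRingCat.of (X.presheaf.stalk z ⧸ maximalIdeal (X.presheaf.stalk z) ^ n)) ⟶ X :=
  Spec.map (CommRingCat.ofHom (Ideal.Quotient.mk (maximalIdeal (X.presheaf.stalk z) ^ n))) ≫ X.fromSpecStalk z

theorem ptMap_apply (z : X) (n : ℕ)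
    (p : Spec (CommRingCat.of (X.presheaf.stalk z ⧸ maximalIdeal (X.presheaf.stalk z) ^ n))) :
    ptMap z n p = z := by
  rw [ptMap, Scheme.Hom.comp_apply]
  have h : Spec.map (CommRingCat.ofHom (Ideal.Quotient.mk (maximalIdeal (X.presheaf.stalk z) ^ n))) p =
      closedPoint (X.presheaf.stalk z) := by
    refine PrimeSpectrum.ext ?_
    change p.asIdeal.comap (Ideal.Quotient.mk _) = maximalIdeal _
    refine le_antisymm (le_maximalIdeal (Ideal.comap_ne_top _ p.2.ne_top)) fun a ha => ?_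
    refine p.2.mem_of_pow_mem n ?_
    rw [← map_pow, Ideal.Quotient.eq_zero_iff_mem.2 (Ideal.pow_mem_pow ha n)]
    exact zero_mem _
  rw [h]
  exact Scheme.fromSpecStalk_closedPoint

theorem mem_ker_ptMap_ideal [X.IsSeparated] (z : X) (n : ℕ) (U : X.affineOpens) (a : Γ(X, U.1)) :
    a ∈ (ptMap z n).ker.ideal U ↔
      ∀ hz : z ∈ U.1, X.presheaf.germ U.1 z hz a ∈ maximalIdeal (X.presheaf.stalk z) ^ n := by
  rw [Scheme.Hom.ker_apply, RingHom.mem_ker]
  let S := CommRingCat.of (X.presheaf.stalk z ⧸ maximalIdeal (X.presheaf.stalk z) ^ n)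
  let φ : X.presheaf.stalk z ⟶ S := CommRingCat.ofHom (Ideal.Quotient.mk _)
  by_cases hz : z ∈ U.1
  · have he : ptMap z n ⁻¹ᵁ U.1 = ⊤ := by
      ext p
      simp only [Scheme.Hom.mem_preimage, Opens.coe_top, Set.mem_univ, iff_true, SetLike.mem_coe]
      rw [ptMap_apply]
      exact hz
    have key : (ptMap z n).app U.1 = X.presheaf.germ U.1 z hz ≫ φ ≫
        (Scheme.ΓSpecIso S).inv ≫ (Spec S).presheaf.map (homOfLE le_top).op := by
      rw [ptMap, Scheme.Hom.comp_app, Scheme.fromSpecStalk_app hz]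
      simp only [Category.assoc]
      congr 1
      rw [Scheme.Hom.naturality, Scheme.ΓSpecIso_inv_naturality_assoc φ]
      rfl
    haveI : IsIso (homOfLE (le_top : ptMap z n ⁻¹ᵁ U.1 ≤ ⊤)) :=
      ⟨homOfLE (le_of_eq he.symm), Subsingleton.elim _ _, Subsingleton.elim _ _⟩
    rw [key]
    constructor
    · intro h hz'
      refine Ideal.Quotient.eq_zero_iff_mem.1 ?_
      apply (ConcreteCategory.bijective_of_isIso ((Scheme.ΓSpecIso S).inv ≫
        (Spec S).presheaf.map (homOfLE (le_top : ptMap z n ⁻¹ᵁ U.1 ≤ ⊤)).op)).1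
      rw [map_zero]
      exact h
    · intro h
      change ((Scheme.ΓSpecIso S).inv ≫ (Spec S).presheaf.map (homOfLE (le_top : ptMap z n ⁻¹ᵁ U.1 ≤ ⊤)).op)
        (Ideal.Quotient.mk _ (X.presheaf.germ U.1 z hz a)) = 0
      rw [Ideal.Quotient.eq_zero_iff_mem.2 (h hz), map_zero]
  · have he : ptMap z n ⁻¹ᵁ U.1 = ⊥ := by
      ext p
      simp only [Scheme.Hom.mem_preimage, Opens.coe_bot, Set.mem_empty_iff_false, iff_false, SetLike.mem_coe]
      rw [ptMap_apply]
      exact hz
    haveI : Subsingleton Γ(Spec S, ptMap z n ⁻¹ᵁ U.1) := by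
      rw [he]; exact CommRingCat.subsingleton_of_isTerminal (Spec S).sheaf.isTerminalOfEmpty
    exact iff_of_true (Subsingleton.elim _ _) (fun h => absurd h hz)

variable (W : X → ℤ)

/-- The intersection of the symbolic powers of the points of a cycle. -/
noncomputable def cycIdeal : X.IdealSheafData :=
  ⨅ z : {x : X // W x ≠ 0}, (ptMap z.1 (W z.1).toNat).ker

theorem mem_cycIdeal [X.IsSeparated] (hfin : {x | W x ≠ 0}.Finite) (U : X.affineOpens) (a : Γ(X, U.1)) :
    a ∈ (cycIdeal W).ideal U ↔ ∀ z, W z ≠ 0 → ∀ hz : z ∈ U.1,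
      X.presheaf.germ U.1 z hz a ∈ maximalIdeal (X.presheaf.stalk z) ^ (W z).toNat := by
  haveI : Finite {x : X // W x ≠ 0} := hfin.to_subtype
  rw [cycIdeal, Scheme.IdealSheafData.ideal_iInf, iInf_apply, Ideal.mem_iInf]
  exact ⟨fun h z hz => (mem_ker_ptMap_ideal z _ U a).1 (h ⟨z, hz⟩),
    fun h z => (mem_ker_ptMap_ideal z.1 _ U a).2 (h z.1 z.2)⟩

section Germs

variable (I : X.IdealSheafData) (U : X.affineOpens) {x : X} (hx : x ∈ U.1)

theorem germ_mem_map_iff (a : Γ(X, U.1)) :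
    X.presheaf.germ U.1 x hx a ∈ (I.ideal U).map (X.presheaf.germ U.1 x hx).hom ↔
      ∃ t, IsUnit (X.presheaf.germ U.1 x hx t) ∧ t * a ∈ I.ideal U := by
  let _ := TopCat.Presheaf.algebra_section_stalk X.presheaf (⟨x, hx⟩ : U.1)
  haveI := U.2.isLocalization_stalk ⟨x, hx⟩
  constructor
  · intro h
    obtain ⟨t, ht, hta⟩ := (IsLocalization.algebraMap_mem_map_algebraMap_iff
      (U.2.primeIdealOf ⟨x, hx⟩).asIdeal.primeCompl (X.presheaf.stalk x) (I.ideal U) a).1 h
    exact ⟨t, IsLocalization.map_units (X.presheaf.stalk x) (⟨t, ht⟩ : (U.2.primeIdealOf ⟨x, hx⟩).asIdeal.primeCompl), hta⟩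
  · rintro ⟨t, ht, hta⟩
    refine (Ideal.unit_mul_mem_iff_mem _ ht).1 ?_
    rw [← map_mul]
    exact Ideal.mem_map_of_mem _ hta

theorem exists_germ_mul (r : X.presheaf.stalk x) :
    ∃ a s, IsUnit (X.presheaf.germ U.1 x hx s) ∧ r * X.presheaf.germ U.1 x hx s = X.presheaf.germ U.1 x hx a := by
  let _ := TopCat.Presheaf.algebra_section_stalk X.presheaf (⟨x, hx⟩ : U.1)
  haveI := U.2.isLocalization_stalk ⟨x, hx⟩
  obtain ⟨⟨a, s⟩, h⟩ := IsLocalization.surj (U.2.primeIdealOf ⟨x, hx⟩).asIdeal.primeCompl r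
  exact ⟨a, s, IsLocalization.map_units (X.presheaf.stalk x) s, h⟩

theorem exists_unit_nonunit {z : X} (hz : z ∈ U.1) (h : ¬ z ⤳ x) :
    ∃ c, IsUnit (X.presheaf.germ U.1 x hx c) ∧ ¬ IsUnit (X.presheaf.germ U.1 z hz c) := by
  rw [specializes_iff_forall_open] at h
  push Not at h
  obtain ⟨V, hV, hxV, hzV⟩ := h
  obtain ⟨f, hf, hxf⟩ := U.2.exists_basicOpen_le (V := ⟨V, hV⟩) ⟨x, hxV⟩ hx
  exact ⟨f, (X.mem_basicOpen f x hx).1 hxf, fun hu => hzV (hf ((X.mem_basicOpen f z hz).2 hu))⟩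

theorem specializes_of_forall {z : X} (hz : z ∈ U.1)
    (h : ∀ c, IsUnit (X.presheaf.germ U.1 x hx c) → IsUnit (X.presheaf.germ U.1 z hz c)) : z ⤳ x := by
  by_contra hzx
  obtain ⟨c, hc, hc'⟩ := exists_unit_nonunit U hx hz hzx
  exact hc' (h c hc)

include hx in
theorem mem_support_iff_map_ne_top :
    x ∈ I.support ↔ (I.ideal U).map (X.presheaf.germ U.1 x hx).hom ≠ ⊤ := by
  rw [Scheme.IdealSheafData.mem_support_iff_of_mem hx, Scheme.mem_zeroLocus_iff, Ne, Ideal.eq_top_iff_one,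
    ← map_one (X.presheaf.germ U.1 x hx).hom]
  change _ ↔ ¬ X.presheaf.germ U.1 x hx 1 ∈ _
  rw [germ_mem_map_iff]
  push Not
  constructor
  · intro h t ht hta
    rw [mul_one] at hta
    exact h t hta ((X.mem_basicOpen t x hx).2 ht)
  · intro h t ht hxt
    exact h t ((X.mem_basicOpen t x hx).1 hxt) (by rwa [mul_one])

end Germs

/-- Points of the same stalk spectrum: a generization seen through germs. -/
theorem germ_stalkSpec {z' z : X} (h : z' ⤳ z) {U : X.Opens} (hz : z ∈ U) (a : Γ(X, U)) :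
    X.presheaf.germ U z' (h.mem_open U.2 hz) a = X.presheaf.stalkSpecializes h (X.presheaf.germ U z hz a) :=
  (TopCat.Presheaf.germ_stalkSpecializes_apply _ hz h a).symm

theorem eq_of_specializes_of_dvr {z' z : X} (h : z' ⤳ z)
    (hd : ∃ _ : IsDomain (X.presheaf.stalk z), IsDiscreteValuationRing (X.presheaf.stalk z))
    (hd' : ∃ _ : IsDomain (X.presheaf.stalk z'), IsDiscreteValuationRing (X.presheaf.stalk z')) : z' = z := by
  obtain ⟨_, _⟩ := hd
  obtain ⟨_, _⟩ := hd'
  obtain ⟨_, ⟨V, hV, rfl⟩, hzV, -⟩ :=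
    X.isBasis_affineOpens.exists_subset_of_mem_open (Set.mem_univ z) isOpen_univ
  let U : X.affineOpens := ⟨V, hV⟩
  have hz' : z' ∈ U.1 := h.mem_open U.1.2 hzV
  let σ := (X.presheaf.stalkSpecializes h).hom
  let P := (maximalIdeal (X.presheaf.stalk z')).comap σ
  haveI : P.IsPrime := Ideal.IsPrime.comap σ
  by_cases hP : P = ⊥
  · exfalso
    refine IsDiscreteValuationRing.not_a_field' (R := X.presheaf.stalk z') ?_
    rw [eq_bot_iff]
    intro r hr
    obtain ⟨a, s, hs, hrs⟩ := exists_germ_mul U hz' r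
    have ha : σ (X.presheaf.germ U.1 z hzV a) ∈ maximalIdeal (X.presheaf.stalk z') := by
      change X.presheaf.stalkSpecializes h _ ∈ _
      rw [← germ_stalkSpec h hzV, ← hrs]
      exact Ideal.mul_mem_right _ _ hr
    have ha0 : X.presheaf.germ U.1 z hzV a ∈ P := ha
    rw [hP, Ideal.mem_bot] at ha0
    rw [germ_stalkSpec h hzV a, ha0, map_zero] at hrs
    exact (Ideal.mem_bot).2 ((hs.mul_left_eq_zero).1 hrs)
  · have hm : P = maximalIdeal (X.presheaf.stalk z) :=
      eq_maximalIdeal ((inferInstance : P.IsPrime).isMaximal hP)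
    refine (h.antisymm (specializes_of_forall U hz' hzV fun c hc => ?_)).eq
    by_contra hu
    have : X.presheaf.germ U.1 z hzV c ∈ P := hm ▸ (mem_maximalIdeal _).2 hu
    rw [Ideal.mem_comap] at this
    refine (mem_maximalIdeal _).1 this ?_
    change IsUnit (X.presheaf.stalkSpecializes h _)
    rwa [← germ_stalkSpec h hzV]

/-- An ideal of a discrete valuation ring of finite colength is the power of the maximal ideal. -/
theorem eq_pow_of_length {R : Type u} [CommRing R] [IsDomain R] [IsDiscreteValuationRing R] (K : Ideal R) (n : ℕ)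
    (h : Module.length R (R ⧸ K) = (n : ℕ∞)) : K = maximalIdeal R ^ n := by
  obtain ⟨ϖ, hϖ⟩ := IsDiscreteValuationRing.exists_irreducible R
  by_cases hK : K = ⊥
  · exfalso
    subst hK
    have h1 : Module.length R (R ⧸ maximalIdeal R ^ (n + 1)) ≤ Module.length R (R ⧸ (⊥ : Ideal R)) :=
      Module.length_le_of_surjective (Submodule.factor bot_le) (Submodule.factor_surjective _)
    rw [h, IsDiscreteValuationRing.length_quotient_pow_maximalIdeal, Nat.cast_le] at h1
    omega
  · obtain ⟨m, rfl⟩ := IsDiscreteValuationRing.ideal_eq_span_pow_irreducible hK hϖ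
    rw [← Ideal.span_singleton_pow, ← hϖ.maximalIdeal_eq] at h ⊢
    rw [IsDiscreteValuationRing.length_quotient_pow_maximalIdeal, Nat.cast_inj] at h
    rw [h]

section Cyc

variable [X.IsSeparated] (hfin : {x | W x ≠ 0}.Finite)

include hfin in
theorem germ_mem_cyc_iff (U : X.affineOpens) {x : X} (hx : x ∈ U.1) (a : Γ(X, U.1)) :
    X.presheaf.germ U.1 x hx a ∈ ((cycIdeal W).ideal U).map (X.presheaf.germ U.1 x hx).hom ↔
      ∀ z, W z ≠ 0 → ∀ hzx : z ⤳ x,
        X.presheaf.germ U.1 z (hzx.mem_open U.1.2 hx) a ∈ maximalIdeal (X.presheaf.stalk z) ^ (W z).toNat := by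
  rw [germ_mem_map_iff]
  constructor
  · rintro ⟨t, ht, hta⟩ z hW hzx
    have h := (mem_cycIdeal W hfin U _).1 hta z hW (hzx.mem_open U.1.2 hx)
    rw [map_mul] at h
    refine (Ideal.unit_mul_mem_iff_mem _ ?_).1 h
    rw [germ_stalkSpec hzx hx]
    exact ht.map _
  · intro h
    classical
    let c : X → Γ(X, U.1) := fun z =>
      if hz : z ∈ U.1 ∧ ¬ z ⤳ x then (exists_unit_nonunit U hx hz.1 hz.2).choose ^ (W z).toNat else 1
    refine ⟨∏ z ∈ hfin.toFinset, c z, ?_, (mem_cycIdeal W hfin U _).2 fun z hW hz => ?_⟩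
    · rw [map_prod]
      refine IsUnit.prod_iff.2 fun z _ => ?_
      dsimp only [c]
      split
      · next hz =>
        rw [map_pow]
        exact (exists_unit_nonunit U hx hz.1 hz.2).choose_spec.1.pow _
      · rw [map_one]; exact isUnit_one
    · rw [map_mul]
      by_cases hzx : z ⤳ x
      · exact Ideal.mul_mem_left _ _ (h z hW hzx)
      · refine Ideal.mul_mem_right _ _ ?_
        obtain ⟨d, hd⟩ := Finset.dvd_prod_of_mem c (hfin.mem_toFinset.2 hW)
        rw [hd, map_mul]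
        refine Ideal.mul_mem_right _ _ ?_
        dsimp only [c]
        rw [dif_pos ⟨hz, hzx⟩, map_pow]
        exact Ideal.pow_mem_pow ((mem_maximalIdeal _).2 (exists_unit_nonunit U hx hz hzx).choose_spec.2) _

variable (hpos : ∀ x, 0 ≤ W x)

include hfin hpos in
theorem mem_support_cyc_iff (x : X) : x ∈ (cycIdeal W).support ↔ ∃ z, W z ≠ 0 ∧ z ⤳ x := by
  obtain ⟨_, ⟨V, hV, rfl⟩, hxV, -⟩ :=
    X.isBasis_affineOpens.exists_subset_of_mem_open (Set.mem_univ x) isOpen_univ
  rw [mem_support_iff_map_ne_top _ ⟨V, hV⟩ hxV, Ne, Ideal.eq_top_iff_one,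
    ← map_one (X.presheaf.germ V x hxV).hom]
  change ¬ X.presheaf.germ V x hxV 1 ∈ _ ↔ _
  rw [germ_mem_cyc_iff W hfin ⟨V, hV⟩ hxV]
  constructor
  · intro h
    by_contra hne
    exact h fun z hW hzx => absurd ⟨z, hW, hzx⟩ hne
  · rintro ⟨z, hW, hzx⟩ h
    have h1 := h z hW hzx
    rw [map_one] at h1
    have h2 : (W z).toNat ≠ 0 := fun h0 => hW (le_antisymm (Int.toNat_eq_zero.1 h0) (hpos z))
    exact (maximalIdeal.isMaximal _).ne_top ((Ideal.eq_top_iff_one _).2 (Ideal.pow_le_self h2 h1))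

end Cyc

end GrothLib.CycSub13
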