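import Groth.Agent.Lib.CycSub13.Basic
import Mathlib.AlgebraicGeometry.Noetherian

/-!
# Existence and uniqueness of the subscheme of a cycle
-/

set_option autoImplicit false
set_option linter.style.haveILetI false
set_option backward.isDefEq.respectTransparency false

universe u

open CategoryTheory AlgebraicGeometry IsLocalRing TopologicalSpace

namespace GrothLib.CycSub13

variable {X : Scheme.{u}} (I : X.IdealSheafData)

theorem length_self_eq {R S : Type u} [CommRing R] [CommRing S] (φ : R →+* S) (hs : Function.Surjective φ) :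
    Module.length S S = Module.length R (R ⧸ RingHom.ker φ) := by
  letI : Algebra R S := φ.toAlgebra
  rw [← Module.length_eq_of_surjective (S := R) (M := S) (show Function.Surjective (algebraMap R S) from hs)]
  exact (Ideal.quotientKerAlgEquivOfSurjective (f := Algebra.ofId R S) hs).toLinearEquiv.symm.length_eq

theorem length_stalk (d : I.subscheme) (U : X.affineOpens) (hd : I.subschemeι d ∈ U.1) :
    Module.length (I.subscheme.presheaf.stalk d) (I.subscheme.presheaf.stalk d) =
      Module.length (X.presheaf.stalk (I.subschemeι d)) (X.presheaf.stalk (I.subschemeι d) ⧸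
        (I.ideal U).map (X.presheaf.germ U.1 (I.subschemeι d) hd).hom) := by
  rw [← GrothLib.BlowUp.ker_stalkMap_subschemeι I d U hd]
  exact length_self_eq (I.subschemeι.stalkMap d).hom (I.subschemeι.stalkMap_surjective d)

theorem isMax_iff (d : I.subscheme) :
    (∀ d' : I.subscheme, d' ⤳ d → d' = d) ↔
      ∀ x' : X, x' ∈ I.support → x' ⤳ I.subschemeι d → x' = I.subschemeι d := by
  constructor
  · intro h x' hx' hs
    obtain ⟨d', rfl⟩ := (I.range_subschemeι.ge hx' : x' ∈ Set.range I.subschemeι)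
    rw [h d' ((I.subschemeι.isEmbedding.toIsInducing.specializes_iff).1 hs)]
  · intro h d' hd'
    refine I.subschemeι.isEmbedding.injective (h _ ?_ (hd'.map I.subschemeι.continuous))
    exact I.range_subschemeι.le (Set.mem_range_self d')

theorem exists_witness_of_isAssociatedPrime (d : I.subscheme) (U : X.affineOpens) (hd : I.subschemeι d ∈ U.1)
    [IsNoetherianRing (I.subscheme.presheaf.stalk d)]
    (h : IsAssociatedPrime (maximalIdeal (I.subscheme.presheaf.stalk d)) (I.subscheme.presheaf.stalk d)) :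
    ∃ r, r ∉ (I.ideal U).map (X.presheaf.germ U.1 (I.subschemeι d) hd).hom ∧
      ∀ m ∈ maximalIdeal (X.presheaf.stalk (I.subschemeι d)),
        m * r ∈ (I.ideal U).map (X.presheaf.germ U.1 (I.subschemeι d) hd).hom := by
  obtain ⟨hP, y, hy⟩ := isAssociatedPrime_iff.1 h
  obtain ⟨r, rfl⟩ := I.subschemeι.stalkMap_surjective d y
  rw [← GrothLib.BlowUp.ker_stalkMap_subschemeι I d U hd]
  refine ⟨r, fun hr => hP.ne_top ?_, fun m hm => ?_⟩
  · rw [hy, Ideal.eq_top_iff_one, Submodule.mem_colon_singleton, one_smul, Submodule.mem_bot]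
    exact hr
  · have h1 : (I.subschemeι.stalkMap d).hom m ∈ maximalIdeal (I.subscheme.presheaf.stalk d) := by
      rw [mem_maximalIdeal, mem_nonunits_iff]
      exact fun hu => (mem_maximalIdeal _).1 hm ((isUnit_map_iff (I.subschemeι.stalkMap d).hom m).1 hu)
    rw [hy, Submodule.mem_colon_singleton, Submodule.mem_bot] at h1
    rw [RingHom.mem_ker, map_mul]
    exact h1

theorem isAssociatedPrime_of_witness (d : I.subscheme) (U : X.affineOpens) (hd : I.subschemeι d ∈ U.1)
    [IsNoetherianRing (I.subscheme.presheaf.stalk d)] (r : X.presheaf.stalk (I.subschemeι d))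
    (hr : r ∉ (I.ideal U).map (X.presheaf.germ U.1 (I.subschemeι d) hd).hom)
    (hm : ∀ m ∈ maximalIdeal (X.presheaf.stalk (I.subschemeι d)),
        m * r ∈ (I.ideal U).map (X.presheaf.germ U.1 (I.subschemeι d) hd).hom) :
    IsAssociatedPrime (maximalIdeal (I.subscheme.presheaf.stalk d)) (I.subscheme.presheaf.stalk d) := by
  rw [← GrothLib.BlowUp.ker_stalkMap_subschemeι I d U hd] at hr hm
  refine isAssociatedPrime_iff.2 ⟨inferInstance, (I.subschemeι.stalkMap d).hom r, ?_⟩
  ext s
  obtain ⟨m, rfl⟩ := I.subschemeι.stalkMap_surjective d s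
  rw [Submodule.mem_colon_singleton, Submodule.mem_bot, smul_eq_mul]
  constructor
  · intro h
    have := hm m ((mem_maximalIdeal _).2 fun hu => (mem_maximalIdeal _).1 h (hu.map (I.subschemeι.stalkMap d).hom))
    rw [RingHom.mem_ker, map_mul] at this
    exact this
  · intro h
    refine (mem_maximalIdeal _).2 fun hu => hr ?_
    rw [RingHom.mem_ker]
    exact hu.mul_right_eq_zero.1 h

variable [IsLocallyNoetherian X]

theorem isNoetherianRing_stalk_sub (d : I.subscheme) : IsNoetherianRing (I.subscheme.presheaf.stalk d) :=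
  haveI := LocallyOfFiniteType.isLocallyNoetherian I.subschemeι
  inferInstance

variable [X.IsSeparated] (W : X → ℤ) (hfin : {x | W x ≠ 0}.Finite) (hpos : ∀ x, 0 ≤ W x)
  (hreg : ∀ x, W x ≠ 0 → ∃ _ : IsDomain ↑(X.presheaf.stalk x), IsDiscreteValuationRing ↑(X.presheaf.stalk x))

/-- The three conditions on the subscheme of a cycle. -/
def Cond : Prop :=
      (∀ z : ↥I.subscheme,
        IsAssociatedPrime (IsLocalRing.maximalIdeal ↑(I.subscheme.presheaf.stalk z))
          ↑(I.subscheme.presheaf.stalk z) → ∀ z' : ↥I.subscheme, z' ⤳ z → z' = z) ∧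
      (∀ z : ↥I.subscheme, (∀ z' : ↥I.subscheme, z' ⤳ z → z' = z) →
        Module.length ↑(I.subscheme.presheaf.stalk z) ↑(I.subscheme.presheaf.stalk z) =
          ((W (I.subschemeι.base z)).toNat : ℕ∞)) ∧
      (∀ x : X, W x ≠ 0 → ∃ z : ↥I.subscheme, I.subschemeι.base z = x ∧
        ∀ z' : ↥I.subscheme, z' ⤳ z → z' = z)

include hfin hreg in
theorem map_cyc_eq_pow {z : X} (hW : W z ≠ 0) (U : X.affineOpens) (hz : z ∈ U.1) :
    ((cycIdeal W).ideal U).map (X.presheaf.germ U.1 z hz).hom =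
      maximalIdeal (X.presheaf.stalk z) ^ (W z).toNat := by
  ext r
  obtain ⟨a, s, hs, hrs⟩ := exists_germ_mul U hz r
  rw [← Ideal.mul_unit_mem_iff_mem _ hs, hrs, germ_mem_cyc_iff W hfin U hz,
    ← Ideal.mul_unit_mem_iff_mem (maximalIdeal (X.presheaf.stalk z) ^ (W z).toNat) hs, hrs]
  refine ⟨fun h => h z hW specializes_rfl, fun h z' hW' hs' => ?_⟩
  obtain rfl := eq_of_specializes_of_dvr hs' (hreg z hW) (hreg z' hW')
  exact h

include hfin hpos hreg in
theorem cond_cycIdeal : Cond (cycIdeal W) W := by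
  refine ⟨fun d hd => ?_, fun d hd => ?_, fun x hx => ?_⟩
  · haveI := isNoetherianRing_stalk_sub (cycIdeal W) d
    obtain ⟨_, ⟨V, hV, rfl⟩, hxV, -⟩ :=
      X.isBasis_affineOpens.exists_subset_of_mem_open (Set.mem_univ ((cycIdeal W).subschemeι d)) isOpen_univ
    obtain ⟨r, hr, hm⟩ := exists_witness_of_isAssociatedPrime (cycIdeal W) d ⟨V, hV⟩ hxV hd
    obtain ⟨a, s, hs, hrs⟩ := exists_germ_mul ⟨V, hV⟩ hxV r
    rw [← Ideal.mul_unit_mem_iff_mem _ hs, hrs, germ_mem_cyc_iff W hfin ⟨V, hV⟩ hxV] at hr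
    push Not at hr
    obtain ⟨z, hW, hzx, hza⟩ := hr
    have hxz : (cycIdeal W).subschemeι d ⤳ z := by
      refine specializes_of_forall ⟨V, hV⟩ (hzx.mem_open V.2 hxV) hxV fun c hc => ?_
      by_contra hu
      have h1 := hm _ ((mem_maximalIdeal _).2 hu)
      rw [← Ideal.mul_unit_mem_iff_mem _ hs, mul_assoc, hrs, ← map_mul, germ_mem_cyc_iff W hfin ⟨V, hV⟩ hxV] at h1
      have h2 := h1 z hW hzx
      rw [map_mul] at h2
      exact hza ((Ideal.unit_mul_mem_iff_mem _ hc).1 h2)
    have hx : z = (cycIdeal W).subschemeι d := (hzx.antisymm hxz).eq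
    rw [isMax_iff]
    intro x' hx' hs'
    obtain ⟨z', hW', hz'⟩ := (mem_support_cyc_iff W hfin hpos x').1 hx'
    have he : z' = z := eq_of_specializes_of_dvr (hx ▸ hz'.trans hs') (hreg z hW) (hreg z' hW')
    exact (hs'.antisymm (hx ▸ he ▸ hz')).eq
  · obtain ⟨z, hW, hz⟩ := (mem_support_cyc_iff W hfin hpos _).1
      ((cycIdeal W).range_subschemeι.le (Set.mem_range_self d))
    have hx : z = (cycIdeal W).subschemeι d :=
      (isMax_iff _ d).1 hd z ((mem_support_cyc_iff W hfin hpos z).2 ⟨z, hW, specializes_rfl⟩) hz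
    subst hx
    obtain ⟨_, ⟨V, hV, rfl⟩, hxV, -⟩ :=
      X.isBasis_affineOpens.exists_subset_of_mem_open (Set.mem_univ ((cycIdeal W).subschemeι d)) isOpen_univ
    obtain ⟨_, _⟩ := hreg _ hW
    rw [length_stalk (cycIdeal W) d ⟨V, hV⟩ hxV, map_cyc_eq_pow W hfin hreg hW ⟨V, hV⟩ hxV,
      IsDiscreteValuationRing.length_quotient_pow_maximalIdeal]
  · obtain ⟨d, rfl⟩ := ((cycIdeal W).range_subschemeι.ge
      ((mem_support_cyc_iff W hfin hpos x).2 ⟨x, hx, specializes_rfl⟩) : x ∈ Set.range (cycIdeal W).subschemeι)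
    refine ⟨d, rfl, (isMax_iff _ d).2 fun x' hx' hs' => ?_⟩
    obtain ⟨z', hW', hz'⟩ := (mem_support_cyc_iff W hfin hpos x').1 hx'
    have he := eq_of_specializes_of_dvr (hz'.trans hs') (hreg _ hx) (hreg z' hW')
    exact (hs'.antisymm (he ▸ hz')).eq

include hfin hpos hreg in
theorem eq_cycIdeal_of_cond (h : Cond I W) : I = cycIdeal W := by
  obtain ⟨h1, h2, h3⟩ := h
  have key : ∀ (d : I.subscheme) (U : X.affineOpens) (hd : I.subschemeι d ∈ U.1),
      (∀ d' : I.subscheme, d' ⤳ d → d' = d) → W (I.subschemeι d) ≠ 0 ∧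
      (I.ideal U).map (X.presheaf.germ U.1 (I.subschemeι d) hd).hom =
        maximalIdeal (X.presheaf.stalk (I.subschemeι d)) ^ (W (I.subschemeι d)).toNat := by
    intro d U hd hmax
    have hl := h2 d hmax
    have hW : W (I.subschemeι d) ≠ 0 := by
      intro h0
      change Module.length _ _ = ((W (I.subschemeι d)).toNat : ℕ∞) at hl
      rw [h0, Int.toNat_zero, Nat.cast_zero, Module.length_eq_zero_iff] at hl
      exact not_subsingleton _ hl
    obtain ⟨_, _⟩ := hreg _ hW
    refine ⟨hW, eq_pow_of_length _ _ ?_⟩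
    rw [← length_stalk I d U hd]
    exact hl
  refine Scheme.IdealSheafData.ext (funext fun U => ?_)
  ext a
  rw [mem_cycIdeal W hfin]
  constructor
  · intro ha z hW hz
    obtain ⟨d, rfl, hmax⟩ := h3 z hW
    rw [← (key d U hz hmax).2]
    exact Ideal.mem_map_of_mem _ ha
  · intro ha
    by_contra hna
    haveI : IsNoetherianRing Γ(X, U.1) := IsLocallyNoetherian.component_noetherian U
    obtain ⟨P, hP, hle⟩ := exists_le_isAssociatedPrime_of_isNoetherianRing Γ(X, U.1)
      (Ideal.Quotient.mk (I.ideal U) a) (fun h0 => hna (Ideal.Quotient.eq_zero_iff_mem.1 h0))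
    obtain ⟨hPp, y, hy⟩ := isAssociatedPrime_iff.1 hP
    obtain ⟨b, rfl⟩ := Ideal.Quotient.mk_surjective y
    have hmem : ∀ t, t ∈ P ↔ t * b ∈ I.ideal U := fun t => by
      rw [hy, Submodule.mem_colon_singleton, Submodule.mem_bot, Algebra.smul_def, Ideal.Quotient.algebraMap_eq,
        ← map_mul, Ideal.Quotient.eq_zero_iff_mem]
    let x : X := U.2.fromSpec ⟨P, hPp⟩
    have hxU : x ∈ U.1 := U.2.range_fromSpec.le (Set.mem_range_self _)
    have hprime : U.2.primeIdealOf ⟨x, hxU⟩ = ⟨P, hPp⟩ :=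
      U.2.fromSpec.isEmbedding.injective (U.2.fromSpec_primeIdealOf ⟨x, hxU⟩)
    have hunit : ∀ t, IsUnit (X.presheaf.germ U.1 x hxU t) ↔ t ∉ P := fun t => by
      let _ := TopCat.Presheaf.algebra_section_stalk X.presheaf (⟨x, hxU⟩ : U.1)
      haveI := U.2.isLocalization_stalk ⟨x, hxU⟩
      have := IsLocalization.AtPrime.isUnit_to_map_iff (X.presheaf.stalk x) (U.2.primeIdealOf ⟨x, hxU⟩).asIdeal t
      rw [hprime] at this
      exact this
    have hb : X.presheaf.germ U.1 x hxU b ∉ (I.ideal U).map (X.presheaf.germ U.1 x hxU).hom := by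
      rw [germ_mem_map_iff]
      rintro ⟨t, ht, htb⟩
      exact (hunit t).1 ht ((hmem t).2 htb)
    have hsupp : x ∈ I.support :=
      (mem_support_iff_map_ne_top I U hxU).2 fun he => hb (he ▸ Submodule.mem_top)
    obtain ⟨d, hd⟩ := (I.range_subschemeι.ge hsupp : x ∈ Set.range I.subschemeι)
    clear_value x
    subst hd
    haveI := isNoetherianRing_stalk_sub I d
    have hass := isAssociatedPrime_of_witness I d U hxU _ hb fun m hm => by
      obtain ⟨c, s, hs, hcs⟩ := exists_germ_mul U hxU m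
      rw [← Ideal.mul_unit_mem_iff_mem _ hs, mul_right_comm, hcs, ← map_mul]
      refine Ideal.mem_map_of_mem _ ((hmem c).1 (not_not.1 fun hc => (mem_maximalIdeal _).1 ?_ ((hunit c).2 hc)))
      rw [← hcs]
      exact Ideal.mul_mem_right _ _ hm
    obtain ⟨hW, hK⟩ := key d U hxU (h1 d hass)
    have h4 := ha _ hW hxU
    rw [← hK, germ_mem_map_iff] at h4
    obtain ⟨t, ht, hta⟩ := h4
    refine (hunit t).1 ht (hle ?_)
    rw [Submodule.mem_colon_singleton, Submodule.mem_bot, Algebra.smul_def, Ideal.Quotient.algebraMap_eq,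
      ← map_mul, Ideal.Quotient.eq_zero_iff_mem]
    exact hta

end GrothLib.CycSub13
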